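import Cfsg.Agent.H364.OutLie
import Cfsg.Agent.H941.RC.ArithD

/-!
# S4191, `OutAll`: the outer automorphism groups of the groups of Lie type (helper941)

The same as `H364.OutLie.card_out` with a sharper bound.
-/

set_option autoImplicit false

namespace Cfsg.Agent.H941.RC

open Cfsg Cfsg.Agent.OrdDiv Finset
open Cfsg.Agent.H902 Cfsg.Agent.H902.Names Cfsg.Agent.H934.OutB Cfsg.Agent.H364.OutLie

universe u

/-- the conclusion -/
def BdT (S : Type u) [Group S] (X : Art.Sh) (p f : ℕ) : Prop :=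
  ∃ c, Nat.card (Cfsg.Out S) = c * f ∧ c ∣ tt X p * Art.dd X (p ^ f)

theorem BdT.of {S : Type u} [Group S] {X : Art.Sh} {p f : ℕ} (c : ℕ) (h : Nat.card (Cfsg.Out S) = c * f)
    (h1 : c ∣ tt X p * Art.dd X (p ^ f)) : BdT S X p f := ⟨c, h, h1⟩

theorem card_out' {S : Type u} [Group S] [Finite S] [IsSimpleGroup S] (hna : ¬ ∀ a b : S, a * b = b * a)
    {g : Grp} {X : Art.Sh} {p f : ℕ} (hg : IsLie g X p f) (h : OrdDiv.Real g S) (hr : Art.Real X p f (Nat.card S)) :
    BdT S X p f := by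
  have hna' : ¬ IsMulCommutative S := fun hc => hna fun a b => hc.is_comm.comm a b
  obtain ⟨hp, hf, hok, -⟩ := hr
  have hpf := Fact.mk hp
  cases hg with
  | psl n p f =>
    obtain ⟨F, _, _, hF, ⟨e⟩⟩ := h
    have h1 := Cfsg.Agent.S0813.result p f hf hF n hok.1 hok.2
    rw [card_pgl hok.1, hF] at h1
    have h2 : Nat.card (MulAut S) = ((if n = 2 then 1 else 2) * Nat.gcd n (p ^ f - 1) * f) * Nat.card S := by
      rw [mulaut_congr e, h1, Nat.card_congr e.toEquiv]; ring
    exact .of _ (card_out_of_aut hna' h2) (dvd_refl _)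
  | psp n p f =>
    obtain ⟨F, _, _, hF, ⟨e⟩⟩ := h
    have h1 := Cfsg.Agent.S0814.result p f hf hF n hok.1 hok.2
    have h2 : Nat.card (MulAut S) = ((if n = 2 ∧ p = 2 then 2 else 1) * Nat.gcd 2 (p ^ f - 1) * f) * Nat.card S := by
      rw [mulaut_congr e, h1, Nat.card_congr e.toEquiv]
    refine .of _ (card_out_of_aut hna' h2) (Nat.mul_dvd_mul (?_ : _ ∣ 2) (dvd_refl _))
    split_ifs <;> norm_num
  | oodd n p f hn ho =>
    obtain ⟨F, _, _, hF, ⟨e⟩⟩ := h
    have hpo : Odd p := by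
      rcases hp.eq_two_or_odd' with h | h
      · subst h
        exact absurd ho (by rw [Nat.not_odd_iff_even]; exact (even_two.pow_of_ne_zero (by omega)))
      · exact h
    have h1 := Cfsg.Agent.S0816.result p f hf hF hpo n hn
    have h2 : Nat.card (MulAut S) = (2 * f) * Nat.card S := by
      rw [mulaut_congr e, h1, Nat.card_congr e.toEquiv]
    exact .of _ (card_out_of_aut hna' h2) (Dvd.intro _ rfl)
  | psu n p f =>
    obtain ⟨F, _, _, hF, ⟨e⟩⟩ := h
    have h1 := Cfsg.Agent.S0815.result p f hf rfl hF n hok.1 (fun h => by have := hok.2 h.1; omega)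
    have h2 : Nat.card (MulAut S) = (2 * Nat.gcd n (p ^ f + 1) * f) * Nat.card S := by
      rw [mulaut_congr e, h1, Nat.card_congr e.toEquiv]; ring
    exact .of _ (card_out_of_aut hna' h2) (dvd_refl _)
  | oplus n p f =>
    obtain ⟨F, _, _, hF, ⟨e⟩⟩ := h
    have h1 := Cfsg.Agent.S0817.result p f hf hF n hok
    have h2 : Nat.card (MulAut S) = (((if n = 4 then 3 else 1) *
        (if p = 2 then 2 else (if Even (n * (p ^ f - 1) / 2) then 8 else 4))) * f) * Nat.card S := by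
      rw [mulaut_congr e, h1, Nat.card_congr e.toEquiv]
    refine .of _ (card_out_of_aut hna' h2) (Dvd.dvd.mul_right (Nat.mul_dvd_mul (dvd_refl _) ?_) _)
    split_ifs <;> norm_num
  | ominus n p f =>
    obtain ⟨F, _, _, a, b, hF, hab, ⟨e⟩⟩ := h
    have h1 := Cfsg.Agent.S0818.result p f hf hF n hok a b hab
    have h2 : Nat.card (MulAut S) = ((if p = 2 then 2 else (if Even (n * (p ^ f - 1) / 2) then 4 else 8)) * f) *
        Nat.card S := by
      rw [mulaut_congr e, h1, Nat.card_congr e.toEquiv]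
    refine .of _ (card_out_of_aut hna' h2) (Dvd.dvd.mul_right ?_ _)
    simp only [tt]
    split_ifs <;> norm_num
  | g2 p f =>
    obtain ⟨F, _, _, hF, ⟨e⟩⟩ := h
    have := charP_of_card hp hf hF
    have h1 := Cfsg.Agent.S2121.result p f hF hok
    refine .of (if p = 3 then 2 else 1) ?_ (Dvd.dvd.mul_right (?_ : _ ∣ 2) _)
    · rw [card_out_congr e, h1]; split_ifs <;> ring
    · split_ifs <;> norm_num
  | f4 p f =>
    obtain ⟨F, _, _, hF, ⟨e⟩⟩ := h
    have := charP_of_card hp hf hF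
    have h1 := Cfsg.Agent.S2122.result p f hF
    exact .of (Nat.gcd 2 p) (by rw [card_out_congr e, h1]) ((Nat.gcd_dvd_left 2 p).mul_right _)
  | e6 p f =>
    obtain ⟨F, _, _, hF, ⟨e⟩⟩ := h
    have := charP_of_card hp hf hF
    have h1 := Cfsg.Agent.S2123.result p f hF
    exact .of (2 * Nat.gcd 3 (p ^ f - 1)) (by rw [card_out_congr e, h1]) (dvd_refl _)
  | e7 p f =>
    obtain ⟨F, _, _, hF, ⟨e⟩⟩ := h
    have := charP_of_card hp hf hF
    have h1 := Cfsg.Agent.S2124.result p f hF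
    exact .of (Nat.gcd 2 (p ^ f - 1)) (by rw [card_out_congr e, h1]) (Dvd.intro_left _ rfl)
  | e8 p f =>
    obtain ⟨F, _, _, hF, ⟨e⟩⟩ := h
    have := charP_of_card hp hf hF
    have h1 := Cfsg.Agent.S2125.result p f hF
    exact .of 1 (by rw [card_out_congr e, h1, one_mul]) (one_dvd _)
  | te6 p f =>
    obtain ⟨F, _, _, hF, ⟨e⟩⟩ := h
    have hF' : Fintype.card F = p ^ (2 * f) := by rw [hF, ← pow_mul, mul_comm]
    have := charP_of_card hp (by omega) hF'
    have h1 := Cfsg.Agent.S2130.result p f hF' hf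
    exact .of (2 * Nat.gcd 3 (p ^ f + 1)) (by rw [card_out_congr e, h1]) (dvd_refl _)
  | td4 p f =>
    obtain ⟨F, _, _, hF, ⟨e⟩⟩ := h
    have hF' : Fintype.card F = p ^ (3 * f) := by rw [hF, ← pow_mul, mul_comm]
    have := charP_of_card hp (by omega) hF'
    have h1 := Cfsg.Agent.S2129.result p f hF' hf
    exact .of 3 (by rw [card_out_congr e, h1]) (Dvd.intro _ rfl)
  | sz p f =>
    obtain ⟨F, _, _, m, hm, hF, hq, ⟨e⟩⟩ := h
    obtain ⟨rfl, -, -⟩ := hok
    have hfm : f = 2 * m + 1 := Nat.pow_right_injective (le_refl 2) hq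
    have h1 := Cfsg.Agent.S2126.result hm (hF.trans hq)
    exact .of 1 (by rw [card_out_congr e, h1, one_mul, hfm]) (one_dvd _)
  | ree p f =>
    obtain ⟨F, _, _, m, hm, hF, hq, ⟨e⟩⟩ := h
    obtain ⟨rfl, -, -⟩ := hok
    have hfm : f = 2 * m + 1 := Nat.pow_right_injective (by norm_num : 2 ≤ 3) hq
    have h1 := Cfsg.Agent.S2127.result hm (hF.trans hq)
    exact .of 1 (by rw [card_out_congr e, h1, one_mul, hfm]) (one_dvd _)
  | tf4 p f =>
    obtain ⟨F, _, _, m, hm, hF, hq, ⟨e⟩⟩ := h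
    obtain ⟨rfl, -, -⟩ := hok
    have hfm : f = 2 * m + 1 := Nat.pow_right_injective (le_refl 2) hq
    have h1 := Cfsg.Agent.S2128.result hm (hF.trans hq)
    exact .of 1 (by rw [card_out_congr e, h1, one_mul, hfm]) (one_dvd _)

end Cfsg.Agent.H941.RC
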