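import Cfsg.Agent.H902.Shape

/-!
# S4191, `OutAll`: the arithmetic (helper941)

For a prime `l ≠ p` dividing the part `num X (p ^ f)` of the order of a group of Lie type:
`ν_l(f) + ν_l(tt X p) + 2 ν_l(dd X (p ^ f)) < ν_l(num X (p ^ f))`.
-/

set_option autoImplicit false

namespace Cfsg.Agent.H941.RC

open Finset Cfsg.Agent.H902 Cfsg.Agent.H902.Art

/-- the bound for the graph and diagonal part of the outer automorphism group: `|Out S|` is `c f` with `c ∣ tt * dd` -/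
def tt : Sh → ℕ → ℕ
  | .L n, _ => if n = 2 then 1 else 2
  | .C _, _ => 2
  | .U _, _ => 2
  | .D n, p => (if n = 4 then 3 else 1) * (if p = 2 then 2 else 8)
  | .DD _, p => if p = 2 then 2 else 8
  | .G2, _ => 2
  | .F4, _ => 2
  | .E6, _ => 2
  | .E7, _ => 1
  | .E8, _ => 1
  | .TE6, _ => 2
  | .TD4, _ => 3
  | .Sz, _ => 1
  | .Ree, _ => 1
  | .TF4, _ => 1

section basic

variable {l p f k : ℕ}

theorem ne_sub {q k : ℕ} (hq : 2 ≤ q) (hk : k ≠ 0) : q ^ k - 1 ≠ 0 := by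
  have : 2 ≤ q ^ k := hq.trans (Nat.le_self_pow hk q)
  omega

/-- Fermat -/
theorem pow_mod (hl : l.Prime) (a : ℤ) (s : ℕ) : (l : ℤ) ∣ a ^ l ^ s - a := by
  have := Fact.mk hl
  rw [← ZMod.intCast_zmod_eq_zero_iff_dvd]
  push_cast
  rw [ZMod.pow_card_pow, sub_self]

theorem exists_split (hf : f ≠ 0) (l k p : ℕ) : ∃ a : ℕ, (p ^ f) ^ k = a ^ l ^ f.factorization l ∧ (a = p ^ (f / l ^ f.factorization l * k)) := by
  refine ⟨_, ?_, rfl⟩
  rw [← pow_mul, ← pow_mul]
  congr 1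
  have h := Nat.ordProj_mul_ordCompl_eq_self f l
  nth_rewrite 1 [← h]
  ring

theorem vsub_int (hl : l.Prime) (a b : ℤ) (hb : b ^ l ^ f.factorization l = b)
    (h : (l : ℤ) ∣ a ^ l ^ f.factorization l - b) :
    (l : ℤ) ^ (f.factorization l + 1) ∣ a ^ l ^ f.factorization l - b := by
  have h1 : (l : ℤ) ∣ a - b := by
    have h2 := pow_mod hl a (f.factorization l)
    have h3 := dvd_sub h h2
    have h4 : a ^ l ^ f.factorization l - b - (a ^ l ^ f.factorization l - a) = a - b := by ring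
    rwa [h4] at h3
  have h2 := dvd_sub_pow_of_dvd_sub h1 (f.factorization l)
  rwa [hb] at h2

theorem vsub (hl : l.Prime) (hp : 2 ≤ p) (hf : f ≠ 0) (hk : k ≠ 0) (h : l ∣ (p ^ f) ^ k - 1) :
    f.factorization l + 1 ≤ ((p ^ f) ^ k - 1).factorization l := by
  have hq : 2 ≤ p ^ f := hp.trans (Nat.le_self_pow hf p)
  have h0 := ne_sub hq hk
  rw [← hl.pow_dvd_iff_le_factorization h0]
  obtain ⟨a, ha, -⟩ := exists_split hf l k p
  have h1 : 1 ≤ (p ^ f) ^ k := Nat.one_le_pow _ _ (by omega)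
  rw [← Int.natCast_dvd_natCast, Nat.cast_sub h1] at h ⊢
  rw [ha] at h ⊢
  push_cast at h ⊢
  exact vsub_int hl a 1 (one_pow _) h

theorem vadd (hl : l.Prime) (hl2 : l ≠ 2) (hf : f ≠ 0) (h : l ∣ (p ^ f) ^ k + 1) :
    f.factorization l + 1 ≤ ((p ^ f) ^ k + 1).factorization l := by
  rw [← hl.pow_dvd_iff_le_factorization (by omega)]
  obtain ⟨a, ha, -⟩ := exists_split hf l k p
  rw [← Int.natCast_dvd_natCast] at h ⊢
  rw [ha] at h ⊢
  push_cast at h ⊢
  have hodd : Odd (l ^ f.factorization l) := (hl.odd_of_ne_two hl2).pow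
  have h1 := vsub_int (f := f) hl a (-1) (by rw [hodd.neg_one_pow]) (by rwa [sub_neg_eq_add])
  rwa [sub_neg_eq_add] at h1

/-- the 2-part of `a ^ 2 ^ (s + 1) - 1` -/
theorem two_int {a : ℤ} (ha : Odd a) (s : ℕ) : (2 : ℤ) ^ (s + 3) ∣ a ^ 2 ^ (s + 1) - 1 := by
  induction s with
  | zero =>
    obtain ⟨b, rfl⟩ := ha
    have h1 : (2 * b + 1) ^ 2 ^ (0 + 1) - 1 = 4 * (b * (b + 1)) := by ring
    rw [h1]
    obtain ⟨c, hc⟩ := Int.even_mul_succ_self b
    rw [hc]
    exact ⟨c, by ring⟩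
  | succ s ih =>
    have h1 : a ^ 2 ^ (s + 1 + 1) - 1 = (a ^ 2 ^ (s + 1) - 1) * (a ^ 2 ^ (s + 1) + 1) := by
      rw [pow_succ 2 (s + 1), pow_mul]
      ring
    rw [h1, show s + 1 + 3 = (s + 3) + 1 by ring, pow_succ]
    refine mul_dvd_mul ih ?_
    have : Odd (a ^ 2 ^ (s + 1)) := ha.pow
    obtain ⟨b, hb⟩ := this
    exact ⟨b + 1, by rw [hb]; ring⟩

theorem vtwo (hp : Odd p) (hp2 : 2 ≤ p) (hf : f ≠ 0) (hk : k ≠ 0) :
    f.factorization 2 + 3 ≤ ((p ^ f) ^ (2 * k) - 1).factorization 2 := by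
  have hq : 2 ≤ p ^ f := hp2.trans (Nat.le_self_pow hf p)
  have h0 := ne_sub hq (k := 2 * k) (by omega)
  rw [← Nat.prime_two.pow_dvd_iff_le_factorization h0]
  obtain ⟨a, ha, ha'⟩ := exists_split hf 2 k p
  have h1 : 1 ≤ (p ^ f) ^ (2 * k) := Nat.one_le_pow _ _ (by omega)
  have h2 : (p ^ f) ^ (2 * k) = a ^ 2 ^ (f.factorization 2 + 1) := by
    rw [mul_comm 2 k, pow_mul, ha, ← pow_mul, pow_succ]
  rw [← Int.natCast_dvd_natCast, Nat.cast_sub h1, h2]
  push_cast
  refine two_int ?_ _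
  have : Odd a := by rw [ha']; exact hp.pow
  exact_mod_cast this

/-- nonzero, and divisible by `l ^ t` if divisible by `l` -/
def Gd (l t N : ℕ) : Prop := N ≠ 0 ∧ (l ∣ N → t ≤ N.factorization l)

theorem Gd.mul {t A B : ℕ} (hl : l.Prime) (hA : Gd l t A) (hB : Gd l t B) : Gd l t (A * B) := by
  refine ⟨mul_ne_zero hA.1 hB.1, fun h => ?_⟩
  rw [Nat.factorization_mul hA.1 hB.1, Finsupp.add_apply]
  rcases hl.dvd_mul.1 h with h | h
  · have := hA.2 h
    omega
  · have := hB.2 h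
    omega

theorem Gd.prod {t n : ℕ} (hl : l.Prime) {g : ℕ → ℕ} (h : ∀ i < n, Gd l t (g i)) : Gd l t (∏ i ∈ range n, g i) := by
  induction n with
  | zero =>
    rw [range_zero, prod_empty]
    exact ⟨one_ne_zero, fun h => absurd (Nat.dvd_one.1 h) hl.one_lt.ne'⟩
  | succ n ih =>
    rw [prod_range_succ]
    exact (ih fun i hi => h i (by omega)).mul hl (h n (by omega))

theorem gd_sub (hl : l.Prime) (hp : 2 ≤ p) (hf : f ≠ 0) (hk : k ≠ 0) :
    Gd l (f.factorization l + 1) ((p ^ f) ^ k - 1) :=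
  ⟨ne_sub (hp.trans (Nat.le_self_pow hf p)) hk, vsub hl hp hf hk⟩

theorem gd_sub' (hl : l.Prime) (hp : 2 ≤ p) (hf : f ≠ 0) :
    Gd l (f.factorization l + 1) (p ^ f - 1) := by
  have := gd_sub hl hp hf (k := 1) one_ne_zero
  rwa [pow_one] at this

theorem gd_add (hl : l.Prime) (hl2 : l ≠ 2) (hf : f ≠ 0) : Gd l (f.factorization l + 1) ((p ^ f) ^ k + 1) :=
  ⟨by omega, vadd hl hl2 hf⟩

/-- all but the last factor of `TD4` -/
theorem gd_td4 (hl : l.Prime) (hp : 2 ≤ p) (hf : f ≠ 0) (hl3 : l ≠ 3) :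
    Gd l (f.factorization l + 1) ((p ^ f) ^ 8 + (p ^ f) ^ 4 + 1) := by
  refine ⟨by omega, fun h => ?_⟩
  have hq : 2 ≤ p ^ f := hp.trans (Nat.le_self_pow hf p)
  have h12 := gd_sub hl hp hf (k := 12) (by norm_num)
  have h4 := ne_sub hq (k := 4) (by norm_num)
  have e : (p ^ f) ^ 12 - 1 = ((p ^ f) ^ 4 - 1) * ((p ^ f) ^ 8 + (p ^ f) ^ 4 + 1) := by
    have h1 : 1 ≤ (p ^ f) ^ 4 := Nat.one_le_pow _ _ (by omega)
    obtain ⟨t, ht⟩ := Nat.exists_eq_add_of_le' h1
    have h8 : (p ^ f) ^ 8 = (t + 1) ^ 2 := by rw [← ht]; ring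
    have h12' : (p ^ f) ^ 12 = (t + 1) ^ 3 := by rw [← ht]; ring
    rw [h8, h12', ht, Nat.add_sub_cancel]
    have : (t + 1) ^ 3 = t * ((t + 1) ^ 2 + (t + 1) + 1) + 1 := by ring
    rw [this, Nat.add_sub_cancel]
  have h1 : ¬ l ∣ (p ^ f) ^ 4 - 1 := by
    intro h2
    have h3 : 1 ≤ (p ^ f) ^ 4 := Nat.one_le_pow _ _ (by omega)
    obtain ⟨t, ht⟩ := Nat.exists_eq_add_of_le' h3
    rw [ht, Nat.add_sub_cancel] at h2
    have h8 : (p ^ f) ^ 8 = (t + 1) ^ 2 := by rw [← ht]; ring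
    rw [h8, ht] at h
    have h5 : (t + 1) ^ 2 + (t + 1) + 1 = t * (t + 3) + 3 := by ring
    rw [h5] at h
    have h6 := (Nat.dvd_add_right (h2.mul_right (t + 3))).1 h
    exact hl3 ((Nat.prime_dvd_prime_iff_eq hl Nat.prime_three).1 h6)
  have h2 := h12.2 (by rw [e]; exact h.mul_left _)
  rw [e, Nat.factorization_mul h4 (by omega), Finsupp.add_apply, Nat.factorization_eq_zero_of_not_dvd h1, zero_add] at h2
  exact h2

/-- a product of divisors -/
theorem le_of_mul {A B N : ℕ} (hN : N ≠ 0) (h : A * B ∣ N) (l : ℕ) :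
    A.factorization l + B.factorization l ≤ N.factorization l := by
  have h0 : A * B ≠ 0 := fun h0 => hN (by rw [h0] at h; exact Nat.eq_zero_of_zero_dvd h)
  have hA : A ≠ 0 := fun h => h0 (by rw [h, zero_mul])
  have hB : B ≠ 0 := fun h => h0 (by rw [h, mul_zero])
  have h1 := (Nat.factorization_le_iff_dvd h0 hN).2 h l
  rwa [Nat.factorization_mul hA hB, Finsupp.add_apply] at h1

theorem le_of_mul3 {A B C N : ℕ} (hN : N ≠ 0) (h : A * B * C ∣ N) (l : ℕ) :
    A.factorization l + B.factorization l + C.factorization l ≤ N.factorization l := by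
  have h0 : A * B * C ≠ 0 := fun h0 => hN (by rw [h0] at h; exact Nat.eq_zero_of_zero_dvd h)
  have hAB : A * B ≠ 0 := fun h => h0 (by rw [h, zero_mul])
  have hA : A ≠ 0 := fun h => hAB (by rw [h, zero_mul])
  have hB : B ≠ 0 := fun h => hAB (by rw [h, mul_zero])
  have h1 := le_of_mul hN h l
  rwa [Nat.factorization_mul hA hB, Finsupp.add_apply] at h1

theorem le_of_dvd {A N : ℕ} (hN : N ≠ 0) (h : A ∣ N) (l : ℕ) : A.factorization l ≤ N.factorization l := by
  have h0 : A ≠ 0 := fun h0 => hN (by rw [h0] at h; exact Nat.eq_zero_of_zero_dvd h)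
  exact (Nat.factorization_le_iff_dvd h0 hN).2 h l

/-- `3 ∣ q ^ (2 k) - 1` -/
theorem three_dvd {q k : ℕ} (h3 : ¬ 3 ∣ q) : 3 ∣ q ^ (2 * k) - 1 := by
  have h1 : q ^ (2 * k) % 3 = 1 := by
    rw [pow_mul, Nat.pow_mod, Nat.pow_mod q]
    have h : q % 3 = 1 ∨ q % 3 = 2 := by omega
    rcases h with h | h <;> rw [h] <;> norm_num
  omega

theorem fac_small {l n : ℕ} (hl : l.Prime) (h : ¬ l ∣ n) : n.factorization l = 0 :=
  Nat.factorization_eq_zero_of_not_dvd h

theorem odd_not_two (hl : l.Prime) (hl2 : l ≠ 2) : ¬ l ∣ 2 := fun h =>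
  hl2 ((Nat.prime_dvd_prime_iff_eq hl Nat.prime_two).1 h)

end basic

section odd

variable {l p f : ℕ}

/-- the general bound for odd `l` -/
theorem gd_num (X : Sh) (hok : Ok X p f) (hl : l.Prime) (hl2 : l ≠ 2) (hp : 2 ≤ p) (hf : f ≠ 0) (h3 : X = .TD4 → l ≠ 3) :
    Gd l (f.factorization l + 1) (num X (p ^ f)) := by
  have s : ∀ {k : ℕ}, k ≠ 0 → Gd l (f.factorization l + 1) ((p ^ f) ^ k - 1) := fun hk => gd_sub hl hp hf hk
  have a : ∀ {k : ℕ}, Gd l (f.factorization l + 1) ((p ^ f) ^ k + 1) := gd_add hl hl2 hf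
  cases X with
  | L n => exact Gd.prod hl fun i _ => s (by omega)
  | C n => exact Gd.prod hl fun i _ => s (by omega)
  | U n =>
    refine Gd.prod hl fun i _ => ?_
    split_ifs
    · exact s (by omega)
    · exact a
  | D n => exact (s (by have : 4 ≤ n := hok; omega)).mul hl (Gd.prod hl fun i _ => s (by omega))
  | DD n => exact a.mul hl (Gd.prod hl fun i _ => s (by omega))
  | G2 => exact (s (by norm_num)).mul hl (s (by norm_num))
  | F4 => exact (((s (by norm_num)).mul hl (s (by norm_num))).mul hl (s (by norm_num))).mul hl (s (by norm_num))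
  | E6 => exact (((((s (by norm_num)).mul hl (s (by norm_num))).mul hl (s (by norm_num))).mul hl (s (by norm_num))).mul hl
      (s (by norm_num))).mul hl (s (by norm_num))
  | E7 => exact ((((((s (by norm_num)).mul hl (s (by norm_num))).mul hl (s (by norm_num))).mul hl (s (by norm_num))).mul hl
      (s (by norm_num))).mul hl (s (by norm_num))).mul hl (s (by norm_num))
  | E8 => exact (((((((s (by norm_num)).mul hl (s (by norm_num))).mul hl (s (by norm_num))).mul hl (s (by norm_num))).mul hl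
      (s (by norm_num))).mul hl (s (by norm_num))).mul hl (s (by norm_num))).mul hl (s (by norm_num))
  | TE6 => exact (((((s (by norm_num)).mul hl a).mul hl (s (by norm_num))).mul hl (s (by norm_num))).mul hl
      a).mul hl (s (by norm_num))
  | TD4 => exact ((s (by norm_num)).mul hl (s (by norm_num))).mul hl (gd_td4 hl hp hf (h3 rfl))
  | Sz => exact (gd_sub' hl hp hf).mul hl a
  | Ree => exact (gd_sub' hl hp hf).mul hl a
  | TF4 => exact (((gd_sub' hl hp hf).mul hl a).mul hl (s (by norm_num))).mul hl a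

end odd

end Cfsg.Agent.H941.RC
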